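import Groth.Agent.ArtFunLib.Hull.Ring
import Groth.Agent.FibFlatMod.StageScheme
import Groth.Agent.S0543
import Mathlib

/-!
# Proper schemes on which the functions of the base inject: the topology on the base
-/

set_option autoImplicit false
set_option linter.style.haveILetI false

universe u

open CategoryTheory CategoryTheory.Limits AlgebraicGeometry TensorProduct IsLocalRing

namespace Groth.Agent.FlatProper

/-- Flat base change keeps a map to a finite product of algebras injective. -/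
theorem injective_prod_baseChange {R R' : Type u} [CommRing R] [CommRing R'] [Algebra R R'] [Module.Flat R R']
    {ι : Type} [Fintype ι] (B : ι → Type u) [∀ i, CommRing (B i)] [∀ i, Algebra R (B i)]
    (h : ∀ a : R, (∀ i, algebraMap R (B i) a = 0) → a = 0) (a : R')
    (ha : ∀ i, (a ⊗ₜ[R] (1 : B i) : R' ⊗[R] B i) = 0) : a = 0 := by
  classical
  let d : R →ₗ[R] ∀ i, B i := LinearMap.pi fun i => Algebra.linearMap R (B i)
  have hd : Function.Injective d := (injective_iff_map_eq_zero d).2 fun x hx => h x fun i => congrFun hx i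
  have h1 : d.lTensor R' (a ⊗ₜ[R] 1) = 0 := by
    apply (TensorProduct.piRight R R R' B).injective
    funext i
    simp [d, ha i]
  have h2 := (injective_iff_map_eq_zero (d.lTensor R')).1 (Module.Flat.lTensor_preserves_injective_linearMap d hd) _ h1
  simpa using congrArg (TensorProduct.rid R R') h2

/-- A function on an affine flat base change which vanishes in all stalks of the inverse image vanishes. -/
theorem eq_zero_of_germs {Z Y T : Scheme.{u}} [IsAffine Y] [IsAffine T] (g : Z ⟶ Y) [QuasiCompact g]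
    (h : T ⟶ Y) [Flat h] (hinj : ∀ s : Γ(Y, ⊤), g.appTop s = 0 → s = 0) (a : Γ(T, ⊤))
    (ha : ∀ z : ↥(pullback g h), (pullback g h).presheaf.germ ⊤ z trivial ((pullback.snd g h).appTop a) = 0) :
    a = 0 := by
  classical
  haveI : CompactSpace Z := QuasiCompact.compactSpace_of_compactSpace g
  obtain ⟨n, U, hU, hcov⟩ : ∃ (n : ℕ) (U : Fin n → Z.Opens), (∀ i, IsAffineOpen (U i)) ∧ ∀ z, ∃ i, z ∈ U i := by
    have hex : ∀ z : Z, ∃ V : Z.Opens, IsAffineOpen V ∧ z ∈ V := fun z => by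
      obtain ⟨V, hV, hzV, -⟩ := exists_isAffineOpen_mem_and_subset (U := (⊤ : Z.Opens)) (x := z) trivial
      exact ⟨V, hV, hzV⟩
    choose V hV hzV using hex
    obtain ⟨s, hs⟩ := isCompact_univ.elim_finite_subcover (fun z : Z => (V z : Set Z)) (fun z => (V z).2)
      fun z _ => Set.mem_iUnion.2 ⟨z, hzV z⟩
    refine ⟨s.card, fun i => V (s.equivFin.symm i).1, fun i => hV _, fun z => ?_⟩
    obtain ⟨y, hy, hz⟩ := Set.mem_iUnion₂.1 (hs (Set.mem_univ z))
    refine ⟨s.equivFin ⟨y, hy⟩, ?_⟩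
    simp only [Equiv.symm_apply_apply]
    exact hz
  letI : Algebra Γ(Y, ⊤) Γ(T, ⊤) := (h.appLE ⊤ ⊤ le_top).hom.toAlgebra
  haveI : Module.Flat Γ(Y, ⊤) Γ(T, ⊤) := h.flat_appLE (isAffineOpen_top Y) (isAffineOpen_top T) le_top
  letI : ∀ i, Algebra Γ(Y, ⊤) Γ(Z, U i) := fun i => (g.appLE ⊤ (U i) le_top).hom.toAlgebra
  refine injective_prod_baseChange (R := Γ(Y, ⊤)) (R' := Γ(T, ⊤)) (fun i => Γ(Z, U i)) (fun s hs => hinj s ?_) a
    fun i => ?_
  · refine Z.sheaf.eq_of_locally_eq' U ⊤ (fun i => homOfLE le_top) (fun z _ => ?_) _ _ fun i => ?_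
    · exact TopologicalSpace.Opens.mem_iSup.2 (hcov z)
    · exact (hs i).trans (map_zero _).symm
  · let P := pullback g h
    let W : P.Opens := pullback.fst g h ⁻¹ᵁ U i ⊓ pullback.snd g h ⁻¹ᵁ ⊤
    obtain ⟨-, i1, i2, hpo⟩ := FibFlatMod.isPushout_sections (IsPullback.of_hasPullback g h) (isAffineOpen_top Y)
      (hU i) (le_top : U i ≤ g ⁻¹ᵁ ⊤) (isAffineOpen_top T) (le_top : (⊤ : T.Opens) ≤ h ⁻¹ᵁ ⊤) (W := W) rfl
      inf_le_left inf_le_right
    letI : Algebra Γ(Z, U i) Γ(P, W) := ((pullback.fst g h).appLE (U i) W inf_le_left).hom.toAlgebra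
    letI : Algebra Γ(T, ⊤) Γ(P, W) := ((pullback.snd g h).appLE ⊤ W inf_le_right).hom.toAlgebra
    letI : Algebra Γ(Y, ⊤) Γ(P, W) :=
      (g.appLE ⊤ (U i) le_top ≫ (pullback.fst g h).appLE (U i) W inf_le_left).hom.toAlgebra
    haveI := i1; haveI := i2; haveI := hpo
    apply (Algebra.IsPushout.equiv Γ(Y, ⊤) Γ(T, ⊤) Γ(Z, U i) Γ(P, W)).injective
    rw [map_zero, Algebra.IsPushout.equiv_tmul, map_one, mul_one]
    refine TopCat.Presheaf.section_ext P.sheaf W _ _ fun z hz => ?_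
    show P.presheaf.germ W z hz ((pullback.snd g h).appLE ⊤ W inf_le_right a) = P.presheaf.germ W z hz 0
    rw [map_zero, ← ha z]
    show ((pullback.snd g h).appLE ⊤ W inf_le_right ≫ P.presheaf.germ W z hz) a =
      ((pullback.snd g h).appTop ≫ P.presheaf.germ ⊤ z trivial) a
    congr 2
    rw [Scheme.Hom.appLE, Category.assoc, TopCat.Presheaf.germ_res]
    rfl

/-- A function on the base of a closed morphism vanishing in the stalks over the closed point vanishes in all. -/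
theorem germ_eq_zero_of_closedFibre {P : Scheme.{u}} {R : CommRingCat.{u}} [IsLocalRing R] (q : P ⟶ Spec R)
    [UniversallyClosed q] (b : Γ(P, ⊤))
    (hb : ∀ z : P, q z = closedPoint R → P.presheaf.germ ⊤ z trivial b = 0) (z : P) :
    P.presheaf.germ ⊤ z trivial b = 0 := by
  let O : Set P := {w | P.presheaf.germ ⊤ w trivial b = 0}
  have hO : IsOpen O := isOpen_iff_forall_mem_open.2 fun w hw => by
    obtain ⟨W, hwW, i, i', he⟩ := TopCat.Presheaf.germ_eq P.presheaf (U := ⊤) (V := ⊤) w trivial trivial b 0 (hw.trans (map_zero _).symm)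
    refine ⟨W, fun v hv => ?_, W.2, hwW⟩
    show P.presheaf.germ ⊤ v trivial b = 0
    rw [← P.presheaf.germ_res_apply i v hv b, he, map_zero, map_zero]
  by_contra hz
  have hcl : IsClosed (q '' Oᶜ) := q.isClosedMap _ hO.isClosed_compl
  obtain ⟨w, hw, hwc⟩ : closedPoint R ∈ q '' Oᶜ :=
    (specializes_closedPoint (q z)).mem_closed hcl ⟨z, hz, rfl⟩
  exact hw (hb w hwc)

section Chevalley

variable {R R' : Type u} [CommRing R] [IsLocalRing R] [IsNoetherianRing R] [CommRing R'] [IsLocalRing R']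
  [IsNoetherianRing R'] [IsAdicComplete (maximalIdeal R') R'] [Algebra R R'] [Module.Flat R R']

/-- Finitely many members of a separating family cut out an ideal inside a power of the maximal ideal. -/
theorem exists_finset_le {κ κ' : Type u} (O : κ → Type u) [∀ z, CommRing (O z)] [∀ z, IsLocalRing (O z)]
    [∀ z, IsNoetherianRing (O z)] (φ : ∀ z, R →+* O z) [∀ z, IsLocalHom (φ z)]
    (O' : κ' → Type u) [∀ z, CommRing (O' z)] [∀ z, IsLocalRing (O' z)] [∀ z, IsNoetherianRing (O' z)]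
    (ψ : ∀ z, R' →+* O' z) [∀ z, IsLocalHom (ψ z)]
    (hm : maximalIdeal R' = (maximalIdeal R).map (algebraMap R R'))
    (hsep : ∀ a : R', (∀ z, ψ z a = 0) → a = 0) (π : κ' → κ) (σ : ∀ z, O (π z) →+* O' z)
    (hσ : ∀ z a, σ z (φ (π z) a) = ψ z (algebraMap R R' a)) (N : ℕ) :
    ∃ s : Finset (κ × ℕ), ⨅ p ∈ s, Ideal.comap (φ p.1) (maximalIdeal (O p.1) ^ p.2) ≤ maximalIdeal R ^ N := by
  classical
  haveI : IsLocalHom (algebraMap R R') := ((IsLocalRing.local_hom_TFAE _).out 0 2).mpr hm.ge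
  haveI : Module.FaithfullyFlat R R' := Module.FaithfullyFlat.of_flat_of_isLocalHom
  have hψm : ∀ z, (maximalIdeal R').map (ψ z) ≠ ⊤ := fun z =>
    ne_top_of_le_ne_top (maximalIdeal.isMaximal (O' z)).ne_top
      (((IsLocalRing.local_hom_TFAE (ψ z)).out 0 2).mp (inferInstance : IsLocalHom (ψ z)))
  let K : ℕ → Ideal R' := fun q => ⨅ z, ((maximalIdeal R' ^ q).map (ψ z)).comap (ψ z)
  have hanti : ∀ {p q}, p ≤ q → K q ≤ K p := fun h =>
    iInf_mono fun z => Ideal.comap_mono (Ideal.map_mono (Ideal.pow_le_pow_right h))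
  obtain ⟨q₀, hq₀⟩ := ArtFunLib.Hull.chevalley (maximalIdeal R') K hanti
    (fun q => ⟨q, le_iInf fun z => Ideal.le_comap_map⟩) N
  have hK0 : ⨅ q, K q = ⊥ := by
    refine eq_bot_iff.2 fun a ha => Ideal.mem_bot.2 (hsep a fun z => ?_)
    rw [← Ideal.mem_bot, ← Ideal.iInf_pow_eq_bot_of_isLocalRing _ (hψm z), Ideal.mem_iInf]
    intro q
    rw [← Ideal.map_pow]
    exact Ideal.mem_iInf.1 (Ideal.mem_iInf.1 ha q) z
  rw [hK0, bot_sup_eq] at hq₀
  let q := q₀ + 1
  have hcomap : ∀ a : R, (∀ z, φ z a ∈ (maximalIdeal R ^ q).map (φ z)) → a ∈ maximalIdeal R ^ N := by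
    intro a ha
    have h1 : algebraMap R R' a ∈ K q := Ideal.mem_iInf.2 fun z => by
      have h2 := Ideal.mem_map_of_mem (σ z) (ha (π z))
      rw [hσ, Ideal.map_map, show (σ z).comp (φ (π z)) = (ψ z).comp (algebraMap R R') from RingHom.ext (hσ z),
        ← Ideal.map_map, Ideal.map_pow (algebraMap R R'), ← hm] at h2
      exact h2
    have h3 := hq₀ (hanti (Nat.le_succ q₀) h1)
    rw [hm, ← Ideal.map_pow, ← Ideal.mem_comap, Ideal.comap_map_eq_self_of_faithfullyFlat] at h3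
    exact h3
  let J : κ × ℕ → Ideal R := fun p => Ideal.comap (φ p.1) (maximalIdeal (O p.1) ^ p.2) ⊔ maximalIdeal R ^ q
  haveI : IsArtinianRing (R ⧸ maximalIdeal R ^ q) := ArtFunLib.Hull.isArtinianRing_quotient_pow _ q
  obtain ⟨_, ⟨s, rfl⟩, hmin⟩ := WellFounded.has_min
    (r := ((· < ·) : Ideal (R ⧸ maximalIdeal R ^ q) → Ideal (R ⧸ maximalIdeal R ^ q) → Prop)) wellFounded_lt
    (Set.range fun s : Finset (κ × ℕ) => (⨅ p ∈ s, J p).map (Ideal.Quotient.mk (maximalIdeal R ^ q))) ⟨_, ∅, rfl⟩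
  have hback : ∀ s : Finset (κ × ℕ), ((⨅ p ∈ s, J p).map (Ideal.Quotient.mk (maximalIdeal R ^ q))).comap
      (Ideal.Quotient.mk _) = ⨅ p ∈ s, J p := fun s => by
    rw [Ideal.comap_map_of_surjective' _ Ideal.Quotient.mk_surjective, Ideal.mk_ker, sup_eq_left]
    exact le_iInf₂ fun p _ => le_sup_right
  have hall : ∀ p, ⨅ r ∈ s, J r ≤ J p := fun p => by
    have hle : (⨅ r ∈ insert p s, J r) ≤ ⨅ r ∈ s, J r := iInf_le_iInf_of_subset (fun r hr => Finset.mem_insert_of_mem hr)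
    rcases (Ideal.map_mono (f := Ideal.Quotient.mk (maximalIdeal R ^ q)) hle).lt_or_eq with h | h
    · exact absurd h (hmin _ ⟨_, rfl⟩)
    · rw [← hback s, ← h, hback]
      exact iInf₂_le p (Finset.mem_insert_self p s)
  refine ⟨s, fun a ha => hcomap a fun z => ?_⟩
  have haJ : a ∈ ⨅ r ∈ s, J r := (iInf₂_mono fun r _ => le_sup_left : _ ≤ ⨅ r ∈ s, J r) ha
  let I := (maximalIdeal R ^ q).map (φ z)
  have hI : I ≤ maximalIdeal (O z) :=
    (Ideal.map_mono (Ideal.pow_le_self (Nat.succ_ne_zero q₀))).trans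
      (((IsLocalRing.local_hom_TFAE (φ z)).out 0 2).mp (inferInstance : IsLocalHom (φ z)))
  haveI : Nontrivial (O z ⧸ I) :=
    Ideal.Quotient.nontrivial_iff.2 (ne_top_of_le_ne_top (maximalIdeal.isMaximal (O z)).ne_top hI)
  haveI : IsLocalRing (O z ⧸ I) := IsLocalRing.of_surjective' (Ideal.Quotient.mk _) Ideal.Quotient.mk_surjective
  rw [← Ideal.Quotient.eq_zero_iff_mem, ← Ideal.mem_bot,
    ← Ideal.iInf_pow_eq_bot_of_isLocalRing (maximalIdeal (O z ⧸ I)) (maximalIdeal.isMaximal _).ne_top, Ideal.mem_iInf]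
  intro n
  obtain ⟨b, hb, c, hc, rfl⟩ := Submodule.mem_sup.1 (hall (z, n) haJ)
  rw [map_add, map_add, Ideal.Quotient.eq_zero_iff_mem.2 (Ideal.mem_map_of_mem (φ z) hc), add_zero,
    ← IsLocalRing.map_maximalIdeal_of_surjective (Ideal.Quotient.mk I) Ideal.Quotient.mk_surjective, ← Ideal.map_pow]
  exact Ideal.mem_map_of_mem _ hb

end Chevalley

end Groth.Agent.FlatProper
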