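import Groth.Agent.FlatProper.Core

/-!
# The family of local rings of a proper scheme over the closed point
-/

set_option autoImplicit false
set_option linter.style.haveILetI false

universe u

open CategoryTheory CategoryTheory.Limits AlgebraicGeometry IsLocalRing

namespace Groth.Agent.FlatProper

/-- The map from the base ring to a stalk. -/
noncomputable def toStalk {R : CommRingCat.{u}} {Z : Scheme.{u}} (g : Z ⟶ Spec R) (z : Z) :
    R →+* Z.presheaf.stalk z :=
  ((Scheme.ΓSpecIso R).inv ≫ g.appTop ≫ Z.presheaf.germ ⊤ z trivial).hom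

theorem isLocalHom_toStalk {R : CommRingCat.{u}} [IsLocalRing R] {Z : Scheme.{u}} (g : Z ⟶ Spec R) (z : Z)
    (hz : g z = closedPoint R) : IsLocalHom (toStalk g z) := by
  refine ⟨fun a ha => ?_⟩
  have h1 : z ∈ Z.basicOpen (g.appTop ((Scheme.ΓSpecIso R).inv a)) := (Scheme.mem_basicOpen Z (U := ⊤) _ z trivial).2 ha
  have hrw : Z.basicOpen (g.appTop ((Scheme.ΓSpecIso R).inv a)) =
      g ⁻¹ᵁ (Spec R).basicOpen ((Scheme.ΓSpecIso R).inv a) := (Scheme.preimage_basicOpen g _).symm
  rw [hrw, basicOpen_eq_of_affine] at h1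
  have h2 : closedPoint R ∈ PrimeSpectrum.basicOpen a := by
    rw [← hz]
    exact h1
  exact IsLocalRing.notMem_maximalIdeal.1 h2

/-- The stalks over the closed point of a proper scheme on which the base injects separate the base ring. -/
theorem exists_family_le {R : CommRingCat.{u}} [IsLocalRing R] [IsNoetherianRing R] {Z : Scheme.{u}}
    (g : Z ⟶ Spec R) [IsProper g] (hinj : ∀ s : Γ(Spec R, ⊤), g.appTop s = 0 → s = 0) (N : ℕ) :
    ∃ s : Finset ({z : Z // g z = closedPoint R} × ℕ),
      ⨅ p ∈ s, Ideal.comap (toStalk g p.1.1) (maximalIdeal (Z.presheaf.stalk p.1.1) ^ p.2) ≤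
        maximalIdeal R ^ N := by
  haveI : IsNoetherianRing (AdicCompletion (maximalIdeal R) R) := S0543.result R (maximalIdeal R)
  let R' : CommRingCat.{u} := CommRingCat.of (AdicCompletion (maximalIdeal R) R)
  let i : R ⟶ R' := CommRingCat.ofHom (algebraMap R (AdicCompletion (maximalIdeal R) R))
  haveI : Flat (Spec.map i) := by
    refine (HasRingHomProperty.Spec_iff (P := @Flat)).2 ?_
    exact RingHom.flat_algebraMap_iff.2 inferInstance
  haveI : IsLocallyNoetherian Z := LocallyOfFiniteType.isLocallyNoetherian g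
  haveI : IsLocallyNoetherian (pullback g (Spec.map i)) :=
    LocallyOfFiniteType.isLocallyNoetherian (pullback.snd g (Spec.map i))
  haveI : IsLocalHom i.hom :=
    inferInstanceAs (IsLocalHom (algebraMap R (AdicCompletion (maximalIdeal R) R)))
  let κ' := {w : ↥(pullback g (Spec.map i)) // pullback.snd g (Spec.map i) w = closedPoint R'}
  have hπ : ∀ w : κ', g (pullback.fst g (Spec.map i) w.1) = closedPoint R := fun w => by
    rw [← Scheme.Hom.comp_apply, pullback.condition, Scheme.Hom.comp_apply, w.2]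
    exact IsLocalRing.comap_closedPoint _
  haveI : ∀ z : {z : Z // g z = closedPoint R}, IsLocalHom (toStalk g z.1) := fun z => isLocalHom_toStalk g z.1 z.2
  haveI : ∀ w : κ', IsLocalHom (toStalk (pullback.snd g (Spec.map i)) w.1) := fun w =>
    isLocalHom_toStalk _ w.1 w.2
  refine exists_finset_le (R' := AdicCompletion (maximalIdeal R) R)
    (fun z : {z : Z // g z = closedPoint R} => Z.presheaf.stalk z.1) (fun z => toStalk g z.1)
    (fun w : κ' => (pullback g (Spec.map i)).presheaf.stalk w.1) (fun w => toStalk (pullback.snd g (Spec.map i)) w.1)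
    AdicCompletion.maximalIdeal_eq_map (fun a ha => ?_) (fun w => ⟨_, hπ w⟩)
    (fun w => ((pullback.fst g (Spec.map i)).stalkMap w.1).hom) (fun w a => ?_) N
  · have h1 : (Scheme.ΓSpecIso R').inv a = 0 :=
      eq_zero_of_germs g (Spec.map i) hinj _ fun w =>
        germ_eq_zero_of_closedFibre (pullback.snd g (Spec.map i)) _ (fun z hz => ha ⟨z, hz⟩) w
    have h2 := congrArg (Scheme.ΓSpecIso R').hom h1
    rwa [map_zero, ← CommRingCat.comp_apply, Iso.inv_hom_id, CommRingCat.id_apply] at h2
  · show ((pullback.fst g (Spec.map i)).stalkMap w.1) (Z.presheaf.germ ⊤ _ trivial (g.appTop ((Scheme.ΓSpecIso R).inv a))) =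
      (pullback g (Spec.map i)).presheaf.germ ⊤ w.1 trivial
        ((pullback.snd g (Spec.map i)).appTop ((Scheme.ΓSpecIso R').inv (i a)))
    refine (Scheme.Hom.germ_stalkMap_apply _ ⊤ w.1 trivial _).trans ?_
    refine congrArg ((pullback g (Spec.map i)).presheaf.germ ⊤ w.1 trivial) ?_
    show ((Scheme.ΓSpecIso R).inv ≫ g.appTop ≫ (pullback.fst g (Spec.map i)).appTop) a =
      ((i ≫ (Scheme.ΓSpecIso R').inv) ≫ (pullback.snd g (Spec.map i)).appTop) a
    rw [Scheme.ΓSpecIso_inv_naturality, Category.assoc, ← Scheme.Hom.comp_appTop, ← Scheme.Hom.comp_appTop,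
      pullback.condition]

end Groth.Agent.FlatProper
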