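import Groth.Agent.FlatProper.Stage
import Groth.Agent.S4867
import Groth.Agent.ConsPropLib.CoreProper

/-!
# Flatness at a point tested after a proper base change: over a local ring
-/

set_option autoImplicit false
set_option linter.style.haveILetI false
set_option backward.isDefEq.respectTransparency false
set_option backward.isDefEq.respectTransparency.types false

universe u

open CategoryTheory CategoryTheory.Limits AlgebraicGeometry IsLocalRing Groth.Agent.ConsPropLib

namespace Groth.Agent.FlatProper

/-- Restriction to the spectrum of a subring is injective at stalks. -/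
theorem germ_eq_zero_of_injective {R A : CommRingCat.{u}} [IsLocalRing A] (φ : R ⟶ A) (hφ : Function.Injective φ)
    (U : (Spec R).Opens) (h : Spec.map φ (closedPoint A) ∈ U) (a : Γ(Spec R, U))
    (ha : (Spec.map φ).app U a = 0) : (Spec R).presheaf.germ U _ h a = 0 := by
  let p : PrimeSpectrum R := Spec.map φ (closedPoint A)
  letI : Algebra R ((Spec R).presheaf.stalk (Spec.map φ (closedPoint A))) := StructureSheaf.stalkAlgebra R p
  haveI : IsLocalization p.asIdeal.primeCompl ((Spec R).presheaf.stalk (Spec.map φ (closedPoint A))) :=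
    StructureSheaf.IsLocalization.to_stalk R p
  obtain ⟨⟨r, t⟩, hrt⟩ := IsLocalization.surj (S := (Spec R).presheaf.stalk (Spec.map φ (closedPoint A)))
    p.asIdeal.primeCompl ((Spec R).presheaf.germ U _ h a)
  have key : ∀ b : R, Scheme.stalkClosedPointTo (Spec.map φ)
      (algebraMap R ((Spec R).presheaf.stalk (Spec.map φ (closedPoint A))) b) = φ b := by
    intro b
    show ((Scheme.ΓSpecIso R).inv ≫ (Spec R).presheaf.germ ⊤ _ trivial ≫ Scheme.stalkClosedPointTo (Spec.map φ)) b = _
    rw [Scheme.germ_stalkClosedPointTo_Spec, Iso.inv_hom_id_assoc]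
  have h0 : Scheme.stalkClosedPointTo (Spec.map φ) ((Spec R).presheaf.germ U _ h a) = 0 := by
    rw [← CommRingCat.comp_apply, Scheme.germ_stalkClosedPointTo, CommRingCat.comp_apply, ha, map_zero]
  have h1 := congrArg (Scheme.stalkClosedPointTo (Spec.map φ)) hrt
  rw [map_mul, h0, zero_mul, key] at h1
  have hr : r = 0 := hφ (h1.symm.trans (map_zero _).symm)
  dsimp only at hrt
  rw [hr, map_zero] at hrt
  exact (IsLocalization.map_units ((Spec R).presheaf.stalk (Spec.map φ (closedPoint A))) t).mul_left_eq_zero.1 hrt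

/-- Flatness at a point tested after a proper base change, over a local ring. -/
theorem flatAt_of_proper {A : CommRingCat.{u}} [IsLocalRing A] {X Y' : Scheme.{u}} (f : X ⟶ Spec A)
    [LocallyOfFinitePresentation f] [QuasiCompact f] [QuasiSeparated f] (F : X.Modules) (hF : CohB1.IsFP F) (x : X)
    (hx : f x = closedPoint A) (g : Y' ⟶ Spec A) [IsProper g] [LocallyOfFinitePresentation g]
    (hinj : ∀ s : Γ(Spec A, ⊤), g.appTop s = 0 → s = 0)
    (hflat : FlatMod.IsFlatOver (pullback.snd f g) ((Scheme.Modules.pullback (pullback.fst f g)).obj F)) :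
    FlatMod.IsFlatOverAt f F x := by
  let D := NoethApprox.diagram A
  let c := NoethApprox.cone A
  have hc : IsLimit c := NoethApprox.isLimit A
  haveI : ∀ {i j : (Finset A)ᵒᵖ} (t : i ⟶ j), IsAffineHom (D.map t) := fun t => NoethApprox.isAffineHom_map A t
  haveI : ∀ (i j : (Finset A)ᵒᵖ) (t : i ⟶ j), IsAffineHom (D.map t) := fun _ _ t => inferInstance
  haveI : ∀ i, IsAffine (D.obj i) := fun i => NoethApprox.isAffine_obj A i
  haveI : ∀ i, IsNoetherian (D.obj i) := fun i => NoethApprox.isNoetherian_obj A i
  obtain ⟨i₁, X₁, u₁, q₁, hlfp, hqc, F₁, hq₁, hF₁, ⟨θ⟩⟩ := S4867.result_aux f F hF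
  haveI := hlfp; haveI := hqc
  let g' : Y' ⟶ c.pt := g
  haveI : IsProper g' := ‹IsProper g›
  haveI : LocallyOfFinitePresentation g' := ‹LocallyOfFinitePresentation g›
  obtain ⟨i₂, Z₂, v₂, p₂, hZ⟩ := hasModel hc g'
  haveI := hZ.lfp; haveI := hZ.qc; haveI := hZ.qs
  haveI : CompactSpace ↥Z₂ := QuasiCompact.compactSpace_of_compactSpace v₂
  haveI : QuasiSeparatedSpace ↥Z₂ := quasiSeparatedSpace_of_quasiSeparated v₂
  obtain ⟨i₃, φ₃, hprop⟩ := core_isProper (Finset A)ᵒᵖ D c hc (fun a b t => inferInstance) i₂ inferInstance v₂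
    inferInstance inferInstance (inferInstance : LocallyOfFinitePresentation v₂)
    (MorLib.Desc.of_two @IsProper hZ.sq (IsPullback.of_hasPullback _ _) inferInstance)
  obtain ⟨i, a₁, a₃, -⟩ := IsCofilteredOrEmpty.cone_objs i₁ i₃
  -- the models over the stage `i`
  let u := pullback.snd u₁ (D.map a₁)
  let qu : X ⟶ pullback u₁ (D.map a₁) := pullback.lift q₁ (f ≫ c.π.app i) (by
    rw [Category.assoc, c.w]; exact hq₁.w)
  have hX : IsPullback qu f u (c.π.app i) := IsPullback.of_right (by
    rw [pullback.lift_fst, c.w]; exact hq₁) (pullback.lift_snd _ _ _) (IsPullback.of_hasPullback _ _)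
  haveI : QuasiCompact u := MorphismProperty.pullback_snd _ _ inferInstance
  let v₃ := pullback.snd v₂ (D.map φ₃)
  haveI : IsProper v₃ := hprop
  let v := pullback.snd v₃ (D.map a₃)
  let qv : Y' ⟶ pullback v₃ (D.map a₃) := pullback.lift (hZ.push φ₃) (g' ≫ c.π.app i) (by
    rw [Category.assoc, c.w]; exact (hZ.pushed φ₃).sq.w)
  have hY : IsPullback qv g' v (c.π.app i) := IsPullback.of_right (by
    rw [pullback.lift_fst, c.w]; exact (hZ.pushed φ₃).sq) (pullback.lift_snd _ _ _) (IsPullback.of_hasPullback _ _)
  let Fu := (Scheme.Modules.pullback (pullback.fst u₁ (D.map a₁))).obj F₁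
  have hFu : CohB1.IsFP Fu := ModStLib.isFP_pullback _ hF₁
  let θu : F ≅ (Scheme.Modules.pullback qu).obj Fu :=
    θ ≪≫ ((Scheme.Modules.pullbackCongr (pullback.lift_fst _ _ _ : qu ≫ _ = q₁)).app F₁).symm ≪≫
      ((Scheme.Modules.pullbackComp qu (pullback.fst u₁ (D.map a₁))).app F₁).symm
  -- the product of the models
  let qX : pullback f g ⟶ pullback u v := pullback.lift (pullback.fst f g ≫ qu) (pullback.snd f g ≫ qv) (by
    rw [Category.assoc, Category.assoc, hX.w, hY.w, pullback.condition_assoc])
  have hXX : IsPullback qX (pullback.snd f g) (pullback.snd u v) qv := by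
    refine IsPullback.of_right ?_ (pullback.lift_snd _ _ _) (IsPullback.of_hasPullback u v)
    rw [pullback.lift_fst, hY.w]
    exact (IsPullback.of_hasPullback f g).paste_horiz hX
  haveI : LocallyOfFinitePresentation (pullback.snd u v) := inferInstance
  haveI : CompactSpace ↥(pullback v₃ (D.map a₃)) := QuasiCompact.compactSpace_of_compactSpace v
  haveI : QuasiCompact (pullback.snd u v) := MorphismProperty.pullback_snd _ _ inferInstance
  haveI : CompactSpace ↥(pullback u v) := QuasiCompact.compactSpace_of_compactSpace (pullback.snd u v)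
  let θX : (Scheme.Modules.pullback (pullback.fst f g)).obj F ≅
      (Scheme.Modules.pullback qX).obj ((Scheme.Modules.pullback (pullback.fst u v)).obj Fu) :=
    (Scheme.Modules.pullback (pullback.fst f g)).mapIso θu ≪≫
      (Scheme.Modules.pullbackComp (pullback.fst f g) qu).app Fu ≪≫
      (Scheme.Modules.pullbackCongr (pullback.lift_fst _ _ _ : qX ≫ pullback.fst u v = _).symm).app Fu ≪≫
      ((Scheme.Modules.pullbackComp qX (pullback.fst u v)).app Fu).symm
  obtain ⟨k, hk⟩ := FibFlatMod.exists_stage_flat_all D c hc i (pullback.snd u v) v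
    (F₀ := (Scheme.Modules.pullback (pullback.fst u v)).obj Fu) (ModStLib.isFP_pullback _ hFu)
    (pullback.snd f g) g' qv qX hY hXX fun z => GrFlat5.isFlatOverAt_of_iso _ θX z (hflat z)
  -- the models over the stage `k`
  let φ := k.hom
  let uk := pullback.snd u (D.map φ)
  let vk := pullback.snd v (D.map φ)
  let qk : X ⟶ pullback u (D.map φ) := pullback.lift qu (f ≫ c.π.app k.left) (by
    rw [Category.assoc, c.w]; exact hX.w)
  let pk : Y' ⟶ pullback v (D.map φ) := pullback.lift qv (g' ≫ c.π.app k.left) (by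
    rw [Category.assoc, c.w]; exact hY.w)
  have hXk : IsPullback qk f uk (c.π.app k.left) := IsPullback.of_right (by
    rw [pullback.lift_fst, c.w]; exact hX) (pullback.lift_snd _ _ _) (IsPullback.of_hasPullback _ _)
  let Fk := (Scheme.Modules.pullback (pullback.fst u (D.map φ))).obj Fu
  haveI : LocallyOfFiniteType uk := inferInstance
  haveI : IsLocallyNoetherian (pullback u (D.map φ)) := LocallyOfFiniteType.isLocallyNoetherian uk
  haveI : IsProper vk := inferInstance
  let e : pullback uk vk ⟶ pullback (pullback.snd u v) (pullback.fst v (D.map φ)) :=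
    pullback.lift (pullback.lift (pullback.fst uk vk ≫ pullback.fst u (D.map φ))
      (pullback.snd uk vk ≫ pullback.fst v (D.map φ)) (by
        simp only [uk, vk, Category.assoc, pullback.condition]
        rw [pullback.condition_assoc])) (pullback.snd uk vk) (pullback.lift_snd _ _ _)
  have he : IsPullback e (pullback.snd uk vk) (pullback.snd (pullback.snd u v) (pullback.fst v (D.map φ))) (𝟙 _) := by
    refine IsPullback.of_right ?_ ((pullback.lift_snd _ _ _).trans (Category.comp_id _).symm)
      (IsPullback.of_hasPullback _ _)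
    rw [pullback.lift_fst, Category.id_comp]
    refine IsPullback.of_right ?_ (pullback.lift_snd _ _ _) (IsPullback.of_hasPullback u v)
    rw [pullback.lift_fst]
    rw [show pullback.fst v (D.map φ) ≫ v = vk ≫ D.map φ from pullback.condition]
    exact (IsPullback.of_hasPullback uk vk).paste_horiz (IsPullback.of_hasPullback u (D.map φ))
  have hflatk : FlatMod.IsFlatOver (pullback.snd uk vk) ((Scheme.Modules.pullback (pullback.fst uk vk)).obj Fk) := by
    intro z
    refine GrFlat5.isFlatOverAt_of_iso _ ?_ z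
      (MorLib.FlatBC.isFlatOverAt_baseChange _ _ e (𝟙 _) he _ z (hk (e z)))
    refine (Scheme.Modules.pullbackComp e _).app _ ≪≫
      (Scheme.Modules.pullbackComp _ (pullback.fst u v)).app Fu ≪≫
      (Scheme.Modules.pullbackCongr ?_).app Fu ≪≫
      ((Scheme.Modules.pullbackComp (pullback.fst uk vk) (pullback.fst u (D.map φ))).app Fu).symm
    rw [Category.assoc, pullback.lift_fst_assoc, pullback.lift_fst]
  have hxk : c.π.app k.left (closedPoint A) = uk (qk x) := by
    rw [← hx]
    show (f ≫ c.π.app k.left) x = (qk ≫ uk) x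
    rw [pullback.lift_snd]
  have hsub : ∀ (U : (D.obj k.left).Opens) (h : c.π.app k.left (closedPoint A) ∈ U) (a : Γ(D.obj k.left, U)),
      (c.π.app k.left).app U a = 0 → (D.obj k.left).presheaf.germ U _ h a = 0 :=
    germ_eq_zero_of_injective (A := A) ((NoethApprox.cocone A).ι.app k.left.unop) Subtype.val_injective
  have h := flatAt_stage (A := A) uk Fk (QCoh.isCoh_iff_isFP.2 (ModStLib.isFP_pullback _ hFu)) (qk x) vk
    (c.π.app k.left) hxk hsub g' pk (pullback.lift_snd _ _ _) hinj hflatk
  refine GrFlat5.isFlatOverAt_of_iso f ?_ x (MorLib.FlatBC.isFlatOverAt_baseChange uk f qk (c.π.app k.left) hXk Fk x h)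
  exact (Scheme.Modules.pullbackComp qk (pullback.fst u (D.map φ))).app Fu ≪≫
    (Scheme.Modules.pullbackCongr (pullback.lift_fst _ _ _ : qk ≫ pullback.fst u (D.map φ) = qu)).app Fu ≪≫ θu.symm

end Groth.Agent.FlatProper
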