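import Groth.Agent.FlatProper.Family
import Groth.Agent.GrFlat5.FlatAtFamily
import Groth.Agent.FibFlatMod.CritMain
import Groth.Agent.NmpLocalize.Chart
import Groth.Agent.H23.RatExtend

/-!
# Flatness at a point tested after a proper base change: the noetherian step
-/

set_option autoImplicit false
set_option linter.style.haveILetI false
set_option backward.isDefEq.respectTransparency false
set_option backward.isDefEq.respectTransparency.types false

universe u

open CategoryTheory CategoryTheory.Limits AlgebraicGeometry IsLocalRing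

namespace Groth.Agent.FlatProper

open FibFlatMod FibFlat in
/-- Flatness at a point is unchanged by flat preimmersions. -/
theorem flatAt_flatPreimmersion {X Y U V : Scheme.{u}} {f : X ⟶ Y} {f' : U ⟶ V} {jX : U ⟶ X} {jY : V ⟶ Y}
    [Flat jX] [IsPreimmersion jX] [Flat jY] [IsPreimmersion jY] (w : f' ≫ jY = jX ≫ f) (F : X.Modules) (z : U) :
    FlatMod.IsFlatOverAt f' ((Scheme.Modules.pullback jX).obj F) z ↔ FlatMod.IsFlatOverAt f F (jX z) := by
  haveI := NmpLocalize.isIso_stalkMap_of_flat_preimmersion jX z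
  have hy : jY (f' z) = f (jX z) := by rw [← Scheme.Hom.comp_apply, w, Scheme.Hom.comp_apply]
  have hb : ∀ (a : V) (b : Y) (e : jY a = b), Function.Bijective (sm jY a b e) := fun a b e => by
    subst e
    rw [sm_self]
    haveI := NmpLocalize.isIso_stalkMap_of_flat_preimmersion jY a
    exact ConcreteCategory.bijective_of_isIso (jY.stalkMap a)
  rw [← flatQuot_bot_iff, ← flatQuot_bot_iff]
  exact (flatQuot_pullback_iff w F z hy (ConcreteCategory.bijective_of_isIso (jX.stalkMap z)).2
    (hb _ _ hy).2 Ideal.map_bot ((RingHom.injective_iff_ker_eq_bot _).1 (hb _ _ hy).1).le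
    (((RingHom.injective_iff_ker_eq_bot _).1 (ConcreteCategory.bijective_of_isIso (jX.stalkMap z)).1).le.trans bot_le)).symm

theorem specMap_toStalk {R : CommRingCat.{u}} {Z : Scheme.{u}} (g : Z ⟶ Spec R) (z : Z) :
    Spec.map (CommRingCat.ofHom (toStalk g z)) = Z.fromSpecStalk z ≫ g := by
  show Spec.map ((Scheme.ΓSpecIso R).inv ≫ g.appTop ≫ Z.presheaf.germ ⊤ z trivial) = _
  rw [← cancel_mono (Spec R).toSpecΓ, Category.assoc, Scheme.toSpecΓ_naturality g,
    Scheme.fromSpecStalk_toSpecΓ_assoc, ← SpecMap_ΓSpecIso_hom]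
  simp only [← Spec.map_comp, Category.assoc, Iso.hom_inv_id_assoc]

/-- A morphism of a local scheme through the local ring at the image of the closed point. -/
theorem exists_factor_stalk {A : CommRingCat.{u}} [IsLocalRing A] {S : Scheme.{u}} (π : Spec A ⟶ S) {y : S}
    (hy : π (closedPoint A) = y)
    (hinj : ∀ (U : S.Opens) (h : π (closedPoint A) ∈ U) (a : Γ(S, U)),
      π.app U a = 0 → S.presheaf.germ U _ h a = 0) :
    ∃ ψ : S.presheaf.stalk y ⟶ A, Spec.map ψ ≫ S.fromSpecStalk y = π ∧ Function.Injective ψ := by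
  subst hy
  refine ⟨Scheme.stalkClosedPointTo π, Scheme.Spec_stalkClosedPointTo_fromSpecStalk π, ?_⟩
  rw [injective_iff_map_eq_zero]
  intro s hs
  obtain ⟨U, hU, a, rfl⟩ := TopCat.Presheaf.germ_exist S.presheaf s
  rw [← CommRingCat.comp_apply, Scheme.germ_stalkClosedPointTo, CommRingCat.comp_apply] at hs
  exact hinj U hU a (((ConcreteCategory.bijective_of_isIso
    (((Spec A).presheaf.mapIso (eqToIso (Scheme.preimage_eq_top_of_closedPoint_mem π hU).symm).op ≪≫
      Scheme.ΓSpecIso A).hom)).1).eq_iff.1 (hs.trans (map_zero _).symm))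

/-- **The noetherian step.** -/
theorem flatAt_stage {S X Z : Scheme.{u}} [IsLocallyNoetherian S] (f : X ⟶ S) [LocallyOfFiniteType f]
    (F : X.Modules) (hF : Coh.IsCoh F) (x : X) (g : Z ⟶ S) [IsProper g]
    {A : CommRingCat.{u}} [IsLocalRing A] (π : Spec A ⟶ S) (hπ : π (closedPoint A) = f x)
    (hsub : ∀ (U : S.Opens) (h : π (closedPoint A) ∈ U) (a : Γ(S, U)),
      π.app U a = 0 → S.presheaf.germ U _ h a = 0)
    {Z' : Scheme.{u}} (g' : Z' ⟶ Spec A) (q : Z' ⟶ Z) (hq : q ≫ g = g' ≫ π)
    (hinj : ∀ s : Γ(Spec A, ⊤), g'.appTop s = 0 → s = 0)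
    (hflat : FlatMod.IsFlatOver (pullback.snd f g) ((Scheme.Modules.pullback (pullback.fst f g)).obj F)) :
    FlatMod.IsFlatOverAt f F x := by
  obtain ⟨ψ, hψ, hψinj⟩ := exists_factor_stalk π hπ hsub
  let g₁ : pullback g (S.fromSpecStalk (f x)) ⟶ Spec (S.presheaf.stalk (f x)) := pullback.snd _ _
  have hg₁ : ∀ s : Γ(Spec (S.presheaf.stalk (f x)), ⊤), g₁.appTop s = 0 → s = 0 := by
    intro s hs
    let l : Z' ⟶ pullback g (S.fromSpecStalk (f x)) :=
      pullback.lift q (g' ≫ Spec.map ψ) (by rw [hq, Category.assoc, hψ])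
    have h1 : (Spec.map ψ).appTop s = 0 := hinj _ (by
      rw [← CommRingCat.comp_apply, ← Scheme.Hom.comp_appTop, ← pullback.lift_snd q (g' ≫ Spec.map ψ)
        (show q ≫ g = (g' ≫ Spec.map ψ) ≫ S.fromSpecStalk (f x) by rw [hq, Category.assoc, hψ]),
        Scheme.Hom.comp_appTop, CommRingCat.comp_apply]
      exact (congrArg l.appTop hs).trans (map_zero _))
    have h2 : ψ ((Scheme.ΓSpecIso _).hom s) = 0 := by
      rw [← CommRingCat.comp_apply, ← Scheme.ΓSpecIso_naturality, CommRingCat.comp_apply, h1, map_zero]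
    exact (ConcreteCategory.bijective_of_isIso (Scheme.ΓSpecIso (S.presheaf.stalk (f x))).hom).1
      ((hψinj (h2.trans (map_zero _).symm)).trans (map_zero _).symm)
  let ι := {z : ↥(pullback g (S.fromSpecStalk (f x))) // g₁ z = closedPoint (S.presheaf.stalk (f x))}
  haveI : ∀ z : ι, IsLocalHom (toStalk g₁ z.1) := fun z => isLocalHom_toStalk g₁ z.1 z.2
  refine GrFlat5.flatAt_of_local_family f F hF x (fun z : ι => (pullback g (S.fromSpecStalk (f x))).presheaf.stalk z.1)
    (fun z => toStalk g₁ z.1) (exists_family_le g₁ hg₁) fun z x' h₁ h₂ => ?_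
  refine GrFlat5.isFlatOverAt_baseChange_comp f g _ ((pullback g (S.fromSpecStalk (f x))).fromSpecStalk z.1 ≫
    pullback.fst g (S.fromSpecStalk (f x))) ?_ F x (closedPoint _) x' h₁ h₂ fun w _ _ => hflat w
  show _ = Spec.map (CommRingCat.ofHom (toStalk g₁ z.1)) ≫ S.fromSpecStalk (f x)
  rw [specMap_toStalk, Category.assoc, pullback.condition, Category.assoc]

end Groth.Agent.FlatProper
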